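import Mathlib
import Cfsg.Prelude.Def_EvenType
import Cfsg.Agent.SignalizersComponents.CompBasic
import Cfsg.Agent.SignalizersComponents.QsBasic
import Cfsg.Agent.SignalizersComponents.Components
import Cfsg.Agent.Lib.Cores

/-!
# The table "components of involution centralizers are `C₂`-groups": tools (helper22)

* `Good K` : the simple quotient `K / Z(K)` is on the `C₂` list and `K` is not an exception;
* `CompC2 X` : `O(C(t)) = 1` and all the components of `C(t)` are good, for every involution `t` of `X`;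
  `CompC2.of_equiv`, `CompC2.lpAll`, `CompC2.core` : conditions (2) and (1) of "even type";
* `CompC2.mk_of_classes` : it is enough to look at representatives of the classes of involutions;
* `comp_eq` : if `N ≤ C(t)` is quasisimple and contains the perfect subgroups of `C(t)`, then `N` is the only component;
* `no_comp` : no component if `C(t)` has a normal solvable subgroup `R` with `C(R) ≤ R` (or solvable).
-/

set_option autoImplicit false

namespace Cfsg.Agent.CTwoTab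

open Subgroup Cfsg

universe u v

/-! ### Good quasisimple groups -/

/-- `K / Z(K)` is on the `C₂` list, and `K` is not an exception. -/
def Good (K : Type*) [Group K] : Prop := IsCpSimple 2 (K ⧸ center K) ∧ ¬ IsCpException 2 K

section congr

variable {K : Type u} {L : Type v} [Group K] [Group L]

theorem map_center_equiv (e : K ≃* L) : (center K).map e.toMonoidHom = center L := by
  ext x
  constructor
  · rintro ⟨y, hy, rfl⟩
    rw [mem_center_iff]
    intro g
    obtain ⟨g', rfl⟩ := e.surjective g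
    have := (mem_center_iff.mp hy) g'
    exact (map_mul e g' y).symm.trans ((congrArg e this).trans (map_mul e y g'))
  · intro hx
    refine ⟨e.symm x, ?_, e.apply_symm_apply x⟩
    change e.symm x ∈ center K
    rw [mem_center_iff]
    intro g
    apply e.injective
    rw [map_mul, map_mul, e.apply_symm_apply]
    exact (mem_center_iff.mp hx) (e g)

/-- The central quotients of isomorphic groups are isomorphic. -/
noncomputable def quoEquiv (e : K ≃* L) : K ⧸ center K ≃* L ⧸ center L :=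
  QuotientGroup.congr (center K) (center L) e (map_center_equiv e)

/-- `S ≅ e(S)` -/
noncomputable def subMap (e : K ≃* L) (S : Subgroup K) : ↥S ≃* ↥(S.map e.toMonoidHom) :=
  S.equivMapOfInjective e.toMonoidHom e.injective

theorem subMap_apply (e : K ≃* L) (S : Subgroup K) (x : ↥S) : ((subMap e S x : ↥(S.map e.toMonoidHom)) : L) = e x := rfl

/-- The centres of isomorphic groups are isomorphic. -/
noncomputable def centerEquiv (e : K ≃* L) : ↥(center K) ≃* ↥(center L) :=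
  (subMap e (center K)).trans (MulEquiv.subgroupCongr (map_center_equiv e))

theorem centerEquiv_apply (e : K ≃* L) (z : ↥(center K)) : ((centerEquiv e z : ↥(center L)) : L) = e z := rfl

theorem isLieTypeChar_congr {p : ℕ} (e : K ≃* L) (h : IsLieTypeChar p K) : IsLieTypeChar p L := by
  rcases h with h | h | h | h | h | h | h | h | ⟨hp, h⟩ | ⟨hp, h⟩ | ⟨hp, h⟩
  · obtain ⟨F, _, _, _, n, h1, h2, ⟨f⟩⟩ := h
    exact Or.inl ⟨F, _, _, inferInstance, n, h1, h2, ⟨e.symm.trans f⟩⟩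
  · obtain ⟨F, _, _, _, m, h1, h2, ⟨f⟩⟩ := h
    exact Or.inr (Or.inl ⟨F, _, _, inferInstance, m, h1, h2, ⟨e.symm.trans f⟩⟩)
  · obtain ⟨F, _, _, _, n, q, h1, h2, h3, ⟨f⟩⟩ := h
    exact Or.inr (Or.inr (Or.inl ⟨F, _, _, inferInstance, n, q, h1, h2, h3, ⟨e.symm.trans f⟩⟩))
  · obtain ⟨F, _, _, _, m, h1, h2, ⟨f⟩⟩ := h
    exact Or.inr (Or.inr (Or.inr (Or.inl ⟨F, _, _, inferInstance, m, h1, h2, ⟨e.symm.trans f⟩⟩)))
  · obtain ⟨F, i1, i2, i3, m, h1, ⟨f⟩⟩ := h
    exact Or.inr (Or.inr (Or.inr (Or.inr (Or.inl ⟨F, i1, i2, i3, m, h1,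
      ⟨e.symm.trans f⟩⟩))))
  · obtain ⟨F, i1, i2, i3, m, a, b, h1, h2, ⟨f⟩⟩ := h
    exact Or.inr (Or.inr (Or.inr (Or.inr (Or.inr (Or.inl ⟨F, i1, i2, i3, m, a, b, h1, h2,
      ⟨e.symm.trans f⟩⟩)))))
  · obtain ⟨F, i1, i2, i3, h⟩ := h
    refine Or.inr (Or.inr (Or.inr (Or.inr (Or.inr (Or.inr (Or.inl ⟨F, i1, i2, i3, ?_⟩))))))
    rcases h with ⟨h1, ⟨f⟩⟩ | ⟨⟨f⟩⟩ | ⟨⟨f⟩⟩ | ⟨⟨f⟩⟩ | ⟨⟨f⟩⟩
    · exact Or.inl ⟨h1, ⟨e.symm.trans f⟩⟩
    · exact Or.inr (Or.inl ⟨e.symm.trans f⟩)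
    · exact Or.inr (Or.inr (Or.inl ⟨e.symm.trans f⟩))
    · exact Or.inr (Or.inr (Or.inr (Or.inl ⟨e.symm.trans f⟩)))
    · exact Or.inr (Or.inr (Or.inr (Or.inr ⟨e.symm.trans f⟩)))
  · obtain ⟨F, i1, i2, i3, q, hq, h⟩ := h
    refine Or.inr (Or.inr (Or.inr (Or.inr (Or.inr (Or.inr (Or.inr (Or.inl ⟨F, i1, i2, i3, q, hq,
      ?_⟩)))))))
    rcases h with ⟨h1, ⟨f⟩⟩ | ⟨h1, ⟨f⟩⟩
    · exact Or.inl ⟨h1, ⟨e.symm.trans f⟩⟩
    · exact Or.inr ⟨h1, ⟨e.symm.trans f⟩⟩
  · obtain ⟨F, _, _, m, h1, h2, ⟨f⟩⟩ := h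
    exact Or.inr (Or.inr (Or.inr (Or.inr (Or.inr (Or.inr (Or.inr (Or.inr (Or.inl ⟨hp, F, _, _, m, h1, h2,
      ⟨e.symm.trans f⟩⟩))))))))
  · obtain ⟨F, _, _, m, h1, h2, ⟨f⟩⟩ := h
    exact Or.inr (Or.inr (Or.inr (Or.inr (Or.inr (Or.inr (Or.inr (Or.inr (Or.inr (Or.inl ⟨hp, F, _, _, m,
      h1, h2, ⟨e.symm.trans f⟩⟩)))))))))
  · obtain ⟨F, _, _, m, h1, h2, ⟨f⟩⟩ := h
    exact Or.inr (Or.inr (Or.inr (Or.inr (Or.inr (Or.inr (Or.inr (Or.inr (Or.inr (Or.inr ⟨hp, F, _, _, m,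
      h1, h2, ⟨e.symm.trans f⟩⟩)))))))))

theorem isChevSimple_congr {p : ℕ} (e : K ≃* L) (h : IsChevSimple p K) : IsChevSimple p L := by
  rcases h with h | ⟨hp, ⟨⟨f⟩⟩ | ⟨F, i1, i2, h1, ⟨f⟩⟩ | ⟨⟨f⟩⟩⟩ | ⟨hp, F, i1, i2, h1, ⟨f⟩⟩
  · exact Or.inl (isLieTypeChar_congr e h)
  · exact Or.inr (Or.inl ⟨hp, Or.inl ⟨e.symm.trans f⟩⟩)
  · exact Or.inr (Or.inl ⟨hp, Or.inr (Or.inl ⟨F, i1, i2, h1, ⟨e.symm.trans f⟩⟩)⟩)
  · exact Or.inr (Or.inl ⟨hp, Or.inr (Or.inr ⟨e.symm.trans f⟩)⟩)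
  · exact Or.inr (Or.inr ⟨hp, F, i1, i2, h1, ⟨e.symm.trans f⟩⟩)

theorem isCTwoListed_congr (e : K ≃* L) (h : IsCTwoListed K) : IsCTwoListed L := by
  have key : ∀ {M : Type} [Group M], Nonempty (K ≃* M) → Nonempty (L ≃* M) :=
    fun ⟨f⟩ => ⟨e.symm.trans f⟩
  unfold IsCTwoListed at h ⊢
  rcases h with ⟨F, i1, i2, h1, h2⟩ | ⟨F, i1, i2, h1, h2 | h2 | h2⟩ | ⟨F, i1, i2, h1, h2⟩ | h
  · exact Or.inl ⟨F, i1, i2, h1, key h2⟩
  · exact Or.inr (Or.inl ⟨F, i1, i2, h1, Or.inl (key h2)⟩)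
  · exact Or.inr (Or.inl ⟨F, i1, i2, h1, Or.inr (Or.inl (key h2))⟩)
  · exact Or.inr (Or.inl ⟨F, i1, i2, h1, Or.inr (Or.inr (key h2))⟩)
  · exact Or.inr (Or.inr (Or.inl ⟨F, i1, i2, h1, key h2⟩))
  · refine Or.inr (Or.inr (Or.inr ?_))
    rcases h with h | h | h | h | h | h | h | h | h | h | h | h | h | h | h | h | h | h | h
    · exact Or.inl (key h)
    · exact Or.inr (Or.inl (key h))
    · exact Or.inr (Or.inr (Or.inl (key h)))
    · exact Or.inr (Or.inr (Or.inr (Or.inl (key h))))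
    · exact Or.inr (Or.inr (Or.inr (Or.inr (Or.inl (key h)))))
    · exact Or.inr (Or.inr (Or.inr (Or.inr (Or.inr (Or.inl (key h))))))
    · obtain ⟨F, i1, i2, w, h1, h2, ⟨f⟩⟩ := h
      exact Or.inr (Or.inr (Or.inr (Or.inr (Or.inr (Or.inr (Or.inl ⟨F, i1, i2, w, h1, h2, ⟨e.symm.trans f⟩⟩))))))
    · exact Or.inr (Or.inr (Or.inr (Or.inr (Or.inr (Or.inr (Or.inr (Or.inl (key h))))))))
    · exact Or.inr (Or.inr (Or.inr (Or.inr (Or.inr (Or.inr (Or.inr (Or.inr (Or.inl (key h)))))))))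
    · exact Or.inr (Or.inr (Or.inr (Or.inr (Or.inr (Or.inr (Or.inr (Or.inr (Or.inr (Or.inl (key h))))))))))
    · exact Or.inr (Or.inr (Or.inr (Or.inr (Or.inr (Or.inr (Or.inr (Or.inr (Or.inr (Or.inr (Or.inl
        (key h)))))))))))
    · exact Or.inr (Or.inr (Or.inr (Or.inr (Or.inr (Or.inr (Or.inr (Or.inr (Or.inr (Or.inr (Or.inr (Or.inl
        (key h))))))))))))
    · exact Or.inr (Or.inr (Or.inr (Or.inr (Or.inr (Or.inr (Or.inr (Or.inr (Or.inr (Or.inr (Or.inr (Or.inr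
        (Or.inl (key h)))))))))))))
    · exact Or.inr (Or.inr (Or.inr (Or.inr (Or.inr (Or.inr (Or.inr (Or.inr (Or.inr (Or.inr (Or.inr (Or.inr
        (Or.inr (Or.inl (key h))))))))))))))
    · exact Or.inr (Or.inr (Or.inr (Or.inr (Or.inr (Or.inr (Or.inr (Or.inr (Or.inr (Or.inr (Or.inr (Or.inr
        (Or.inr (Or.inr (Or.inl (key h)))))))))))))))
    · exact Or.inr (Or.inr (Or.inr (Or.inr (Or.inr (Or.inr (Or.inr (Or.inr (Or.inr (Or.inr (Or.inr (Or.inr
        (Or.inr (Or.inr (Or.inr (Or.inl (key h))))))))))))))))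
    · exact Or.inr (Or.inr (Or.inr (Or.inr (Or.inr (Or.inr (Or.inr (Or.inr (Or.inr (Or.inr (Or.inr (Or.inr
        (Or.inr (Or.inr (Or.inr (Or.inr (Or.inl (key h)))))))))))))))))
    · exact Or.inr (Or.inr (Or.inr (Or.inr (Or.inr (Or.inr (Or.inr (Or.inr (Or.inr (Or.inr (Or.inr (Or.inr
        (Or.inr (Or.inr (Or.inr (Or.inr (Or.inr (Or.inl (key h))))))))))))))))))
    · exact Or.inr (Or.inr (Or.inr (Or.inr (Or.inr (Or.inr (Or.inr (Or.inr (Or.inr (Or.inr (Or.inr (Or.inr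
        (Or.inr (Or.inr (Or.inr (Or.inr (Or.inr (Or.inr (key h))))))))))))))))))

theorem isCpSimple_two_congr (e : K ≃* L) (h : IsCpSimple 2 K) : IsCpSimple 2 L := by
  rcases h with h | ⟨n, hn, ⟨f⟩⟩ | ⟨hp, h⟩ | ⟨hp, -⟩ | ⟨hp, -⟩ | ⟨hp, -⟩ | ⟨hp, -⟩
  · exact Or.inl (isChevSimple_congr e h)
  · exact Or.inr (Or.inl ⟨n, hn, ⟨e.symm.trans f⟩⟩)
  · exact Or.inr (Or.inr (Or.inl ⟨hp, isCTwoListed_congr e h⟩))
  · omega
  · omega
  · omega
  · omega

theorem isCpException_two_congr (e : K ≃* L) (h : IsCpException 2 K) : IsCpException 2 L := by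
  rcases h with ⟨hp, h⟩ | ⟨hp, -⟩
  swap
  · omega
  refine Or.inl ⟨hp, ?_⟩
  rcases h with ⟨F, i1, i2, h1, ⟨f⟩⟩ | ⟨h1, ⟨f⟩⟩ | ⟨F, i1, i2, h1, ⟨⟨f⟩⟩ | ⟨⟨f⟩⟩⟩ | ⟨F, i1, i2, h1, ⟨f⟩⟩ |
    ⟨⟨F, i1, i2, h1, ⟨f⟩⟩, z, hz, hz4⟩
  · exact Or.inl ⟨F, i1, i2, h1, ⟨e.symm.trans f⟩⟩
  · exact Or.inr (Or.inl ⟨(Nat.card_congr (centerEquiv e).toEquiv).symm.trans h1, ⟨(quoEquiv e).symm.trans f⟩⟩)
  · exact Or.inr (Or.inr (Or.inl ⟨F, i1, i2, h1, Or.inl ⟨e.symm.trans f⟩⟩))
  · exact Or.inr (Or.inr (Or.inl ⟨F, i1, i2, h1, Or.inr ⟨e.symm.trans f⟩⟩))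
  · exact Or.inr (Or.inr (Or.inr (Or.inl ⟨F, i1, i2, h1, ⟨e.symm.trans f⟩⟩)))
  · refine Or.inr (Or.inr (Or.inr (Or.inr ⟨⟨F, i1, i2, h1, ⟨(quoEquiv e).symm.trans f⟩⟩, e z, ?_, ?_⟩)))
    · exact (centerEquiv e ⟨z, hz⟩).2
    · rw [MulEquiv.orderOf_eq, hz4]

theorem Good.congr (e : K ≃* L) (h : Good K) : Good L :=
  ⟨isCpSimple_two_congr (quoEquiv e) h.1, fun h' => h.2 (isCpException_two_congr e.symm h')⟩

end congr

/-- If `Z(K) = 1`, `K` itself is on the list, then `K` is good unless it is an exception. -/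
theorem good_of_center_eq_bot {K : Type*} [Group K] (hz : center K = ⊥) (h : IsCpSimple 2 K)
    (hne : ¬ ∃ (F : Type) (_ : Field F) (_ : Fintype F), IsFM9 (Fintype.card F) ∧
        Nonempty (K ≃* Matrix.SpecialLinearGroup (Fin 2) F))
    (hsl4 : ¬ ∃ (F : Type) (_ : Field F) (_ : Fintype F), Fintype.card F = 3 ∧
        (Nonempty (K ≃* Matrix.SpecialLinearGroup (Fin 4) F) ∨ Nonempty (K ≃* ↥(Matrix.symplecticGroup (Fin 2) F))))
    (hsu : ¬ ∃ (F : Type) (_ : Field F) (_ : Fintype F), Fintype.card F = 9 ∧ Nonempty (K ≃* ↥(SU 4 F 3))) :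
    Good K := by
  refine ⟨isCpSimple_two_congr ((QuotientGroup.quotientMulEquivOfEq hz).trans QuotientGroup.quotientBot).symm h, ?_⟩
  rintro (⟨-, h⟩ | ⟨hp, -⟩)
  swap
  · omega
  rcases h with h | ⟨h1, -⟩ | h | h | ⟨-, z, hz', hz4⟩
  · exact hne h
  · rw [hz, card_bot] at h1
    omega
  · exact hsl4 h
  · exact hsu h
  · rw [hz, mem_bot] at hz'
    rw [hz', orderOf_one] at hz4
    omega

/-! ### The property of `X` -/

/-- `O(C(t)) = 1` and every component of `C(t)` is good, for every involution `t`. -/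
structure CompC2 (X : Type*) [Group X] : Prop where
  bal : ∀ t : X, orderOf t = 2 → centralizerPPrimeCore 2 t = ⊥
  comp : ∀ t : X, orderOf t = 2 → ∀ K : Subgroup X, IsComponentOf K (centralizer ({t} : Set X)) → Good ↥K

section equiv

variable {X : Type u} {Y : Type v} [Group X] [Group Y]

theorem map_centralizer_singleton (e : X ≃* Y) (t : X) :
    (centralizer ({t} : Set X)).map e.toMonoidHom = centralizer ({e t} : Set Y) := by
  ext y
  constructor
  · rintro ⟨x, hx, rfl⟩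
    rw [SetLike.mem_coe, mem_centralizer_singleton_iff] at hx
    rw [mem_centralizer_singleton_iff]
    change e x * e t = e t * e x
    rw [← map_mul, hx, map_mul]
  · intro hy
    rw [mem_centralizer_singleton_iff] at hy
    refine ⟨e.symm y, ?_, e.apply_symm_apply y⟩
    rw [SetLike.mem_coe, mem_centralizer_singleton_iff]
    apply e.injective
    rw [map_mul, map_mul, e.apply_symm_apply, hy]

theorem map_pPrimeCore (p : ℕ) (e : X ≃* Y) : (pPrimeCore p X).map e.toMonoidHom = pPrimeCore p Y := by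
  have key : ∀ {A : Type u} {B : Type v} [Group A] [Group B] (f : A ≃* B),
      (pPrimeCore p A).map f.toMonoidHom ≤ pPrimeCore p B := by
    intro A B _ _ f
    unfold pPrimeCore
    rw [Subgroup.map_le_iff_le_comap]
    apply sSup_le
    rintro N ⟨hN, hc⟩
    rw [← Subgroup.map_le_iff_le_comap]
    apply le_sSup
    refine ⟨hN.map _ f.surjective, ?_⟩
    rwa [← Nat.card_congr (subMap f N).toEquiv]
  have key' : ∀ {A : Type v} {B : Type u} [Group A] [Group B] (f : A ≃* B),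
      (pPrimeCore p A).map f.toMonoidHom ≤ pPrimeCore p B := by
    intro A B _ _ f
    unfold pPrimeCore
    rw [Subgroup.map_le_iff_le_comap]
    apply sSup_le
    rintro N ⟨hN, hc⟩
    rw [← Subgroup.map_le_iff_le_comap]
    apply le_sSup
    refine ⟨hN.map _ f.surjective, ?_⟩
    rwa [← Nat.card_congr (subMap f N).toEquiv]
  apply le_antisymm (key e)
  intro y hy
  exact ⟨e.symm y, key' e.symm ⟨y, hy, rfl⟩, e.apply_symm_apply y⟩

theorem isComponentOf_map (e : X ≃* Y) {K C : Subgroup X} (h : IsComponentOf K C) :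
    IsComponentOf (K.map e.toMonoidHom) (C.map e.toMonoidHom) := by
  obtain ⟨hle, hK⟩ := h
  refine ⟨map_mono hle, ?_⟩
  have h1 := SignalizersComponents.Components.isComponent_map_equiv (subMap e C) hK
  have h2 : (K.subgroupOf C).map (subMap e C).toMonoidHom = (K.map e.toMonoidHom).subgroupOf (C.map e.toMonoidHom) := by
    ext ⟨y, hy⟩
    rw [mem_subgroupOf]
    constructor
    · rintro ⟨⟨x, hx⟩, hxK, hxy⟩
      exact ⟨x, hxK, congrArg Subtype.val hxy⟩
    · rintro ⟨x, hxK, hxy⟩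
      exact ⟨⟨x, hle hxK⟩, hxK, Subtype.ext hxy⟩
  rwa [h2] at h1

theorem centralizerPPrimeCore_eq_bot_iff {p : ℕ} {t : X} :
    centralizerPPrimeCore p t = ⊥ ↔ pPrimeCore p ↥(centralizer ({t} : Set X)) = ⊥ := by
  unfold centralizerPPrimeCore
  exact map_eq_bot_iff_of_injective _ (Subgroup.subtype_injective _)

theorem core_bot_map {p : ℕ} (e : X ≃* Y) {t : X} (h : centralizerPPrimeCore p t = ⊥) :
    centralizerPPrimeCore p (e t) = ⊥ := by
  rw [centralizerPPrimeCore_eq_bot_iff] at h ⊢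
  have h1 := map_pPrimeCore p
    ((subMap e (centralizer ({t} : Set X))).trans (MulEquiv.subgroupCongr (map_centralizer_singleton e t)))
  rw [h, Subgroup.map_bot] at h1
  exact h1.symm

/-- the condition at one involution -/
structure At (X : Type*) [Group X] (t : X) : Prop where
  bal : centralizerPPrimeCore 2 t = ⊥
  comp : ∀ K : Subgroup X, IsComponentOf K (centralizer ({t} : Set X)) → Good ↥K

theorem At.map (e : X ≃* Y) {t : X} (h : At X t) : At Y (e t) where
  bal := core_bot_map e h.bal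
  comp := by
    intro K hK
    have h1 := isComponentOf_map e.symm hK
    have h2 : (centralizer ({e t} : Set Y)).map e.symm.toMonoidHom = centralizer ({t} : Set X) := by
      rw [map_centralizer_singleton, e.symm_apply_apply]
    rw [h2] at h1
    exact (h.comp _ h1).congr (subMap e.symm K).symm

theorem At.conj {t : X} (h : At X t) (g : X) : At X (g * t * g⁻¹) := h.map (MulAut.conj g)

theorem CompC2.of_equiv (e : X ≃* Y) (h : CompC2 X) : CompC2 Y := by
  have key : ∀ t : Y, orderOf t = 2 → At Y t := by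
    intro t ht
    have h1 : At X (e.symm t) := by
      have h2 : orderOf (e.symm t) = 2 := by rw [MulEquiv.orderOf_eq, ht]
      exact ⟨h.bal _ h2, h.comp _ h2⟩
    have := h1.map e
    rwa [e.apply_symm_apply] at this
  exact ⟨fun t ht => (key t ht).bal, fun t ht => (key t ht).comp⟩

end equiv

/-- It is enough to look at representatives of the classes of involutions. -/
theorem CompC2.mk_of_classes {X : Type u} [Group X] (P : X → Prop)
    (h : ∀ t : X, orderOf t = 2 → ∃ g s : X, P s ∧ t = g * s * g⁻¹)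
    (hP : ∀ s : X, P s → At X s) : CompC2 X := by
  have key : ∀ t : X, orderOf t = 2 → At X t := by
    intro t ht
    obtain ⟨g, s, hs, rfl⟩ := h t ht
    exact (hP s hs).conj g
  exact ⟨fun t ht => (key t ht).bal, fun t ht => (key t ht).comp⟩

/-! ### Components of a centralizer -/

section comp

set_option linter.unusedSectionVars false

variable {X : Type u} [Group X] [Finite X]

/-- If `N` is quasisimple and contains the component `K`, then `K = N`. -/
theorem comp_eq_of_le {C K N : Subgroup X} (hN : IsQuasisimple ↥N) (hNC : N ≤ C) (hK : IsComponentOf K C)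
    (hKN : K ≤ N) : K = N := by
  obtain ⟨hKC, hsub, hq⟩ := hK
  have h1 : (K.subgroupOf N).IsSubnormal := by
    have h2 := hsub.comap (Subgroup.inclusion hNC)
    have h3 : (K.subgroupOf C).comap (Subgroup.inclusion hNC) = K.subgroupOf N := by
      ext x
      simp [mem_subgroupOf]
    rwa [h3] at h2
  rcases SignalizersComponents.Components.quasisimple_subnormal hN h1 with h2 | h2
  · exact le_antisymm hKN (subgroupOf_eq_top.1 h2)
  · exfalso
    have hq' : IsQuasisimple ↥K := SignalizersComponents.Components.isQuasisimple_of_mulEquiv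
      (subgroupOfEquivOfLe hKC) hq
    apply SignalizersComponents.Components.quasisimple_not_isMulCommutative hq'
    refine ⟨⟨fun a b => ?_⟩⟩
    have ha : (⟨a, hKN a.2⟩ : ↥N) ∈ center ↥N := h2 (mem_subgroupOf.2 a.2)
    have := mem_center_iff.1 ha ⟨b, hKN b.2⟩
    exact Subtype.ext (congrArg Subtype.val this).symm

theorem isPerfect_of_comp {C K : Subgroup X} (hK : IsComponentOf K C) : ⁅K, K⁆ = K := by
  have hq' : IsQuasisimple ↥K := SignalizersComponents.Components.isQuasisimple_of_mulEquiv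
    (subgroupOfEquivOfLe hK.1) hK.2.2
  have h1 : _root_.commutator ↥K = ⊤ := Group.isPerfect_def.1 hq'.1
  have h2 := congrArg (Subgroup.map K.subtype) h1
  rw [commutator_def, map_commutator, ← MonoidHom.range_eq_map, Subgroup.range_subtype] at h2
  exact h2

/-- **The only component**: `N ≤ C` is quasisimple and contains all the perfect subgroups of `C`. -/
theorem comp_eq {C K N : Subgroup X} (hN : IsQuasisimple ↥N) (hNC : N ≤ C)
    (hperf : ∀ P : Subgroup X, P ≤ C → ⁅P, P⁆ = P → P ≤ N) (hK : IsComponentOf K C) : K = N :=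
  comp_eq_of_le hN hNC hK (hperf K hK.1 (isPerfect_of_comp hK))

/-- A component of `C` commutes with the solvable normal subgroups of `C`. -/
theorem comp_comm_solvable {C K R : Subgroup X} (hK : IsComponentOf K C) (hRC : R ≤ C)
    (hn : ∀ c ∈ C, ∀ r ∈ R, c * r * c⁻¹ ∈ R) (hs : Group.IsSolvable ↥R) : ∀ k ∈ K, ∀ r ∈ R, k * r = r * k := by
  have hn' : (R.subgroupOf C).Normal := ⟨fun r hr g => hn g g.2 r hr⟩
  have hs' : Group.IsSolvable ↥(R.subgroupOf C) :=
    Group.isSolvable_of_isSolvable_injective (f := (subgroupOfEquivOfLe hRC).toMonoidHom) (subgroupOfEquivOfLe hRC).injective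
  have h1 := SignalizersComponents.Components.component_commutator_solvable hK.2
    (H := R.subgroupOf C) (by rw [normalizer_eq_top_iff.2 hn']; exact le_top) hs'
  intro k hk r hr
  rw [commutator_eq_bot_iff_le_centralizer] at h1
  have h2 := h1 (x := ⟨k, hK.1 hk⟩) (mem_subgroupOf.2 hk)
  have h3 := mem_centralizer_iff.1 h2 ⟨r, hRC hr⟩ (mem_subgroupOf.2 hr)
  exact (congrArg Subtype.val h3).symm

/-- **No component**: `C` has a solvable normal subgroup `R` such that `C_C(R)` is solvable. -/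
theorem no_comp {C R : Subgroup X} (hRC : R ≤ C)
    (hn : ∀ c ∈ C, ∀ r ∈ R, c * r * c⁻¹ ∈ R) (hs : Group.IsSolvable ↥R)
    (hc : Group.IsSolvable ↥(C ⊓ centralizer (R : Set X))) (K : Subgroup X) : ¬ IsComponentOf K C := by
  intro hK
  have h1 := comp_comm_solvable hK hRC hn hs
  have h2 : K ≤ C ⊓ centralizer (R : Set X) :=
    le_inf hK.1 fun k hk => mem_centralizer_iff.2 fun r hr => (h1 k hk r hr).symm
  have hq' : IsQuasisimple ↥K := SignalizersComponents.Components.isQuasisimple_of_mulEquiv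
    (subgroupOfEquivOfLe hK.1) hK.2.2
  apply SignalizersComponents.Components.quasisimple_not_isSolvable hq'
  exact Group.isSolvable_of_isSolvable_injective (f := Subgroup.inclusion h2) (Subgroup.inclusion_injective h2)

/-- **No component**: `C` has a normal 2-subgroup `R` such that `C_C(R) ≤ R`. -/
theorem no_comp_of_pGroup {p : ℕ} [Fact p.Prime] {C R : Subgroup X} (hRC : R ≤ C)
    (hn : ∀ c ∈ C, ∀ r ∈ R, c * r * c⁻¹ ∈ R) (hp : IsPGroup p ↥R)
    (hc : ∀ c ∈ C, (∀ r ∈ R, c * r = r * c) → c ∈ R) (K : Subgroup X) : ¬ IsComponentOf K C := by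
  have hnil := hp.isNilpotent
  have hs : Group.IsSolvable ↥R := inferInstance
  have hle : C ⊓ centralizer (R : Set X) ≤ R := by
    rintro c ⟨h1, h2⟩
    exact hc c h1 fun r hr => (mem_centralizer_iff.1 h2 r hr).symm
  exact no_comp hRC hn hs
    (Group.isSolvable_of_isSolvable_injective (f := Subgroup.inclusion hle) (Subgroup.inclusion_injective hle)) K

/-- **The core**: `C` has a normal 2-subgroup `R` such that `C_C(R) ≤ R`. -/
theorem core_of_pGroup {C R : Subgroup X} (hRC : R ≤ C)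
    (hn : ∀ c ∈ C, ∀ r ∈ R, c * r * c⁻¹ ∈ R) (hp : IsPGroup 2 ↥R)
    (hc : ∀ c ∈ C, (∀ r ∈ R, c * r = r * c) → c ∈ R) : pPrimeCore 2 ↥C = ⊥ := by
  have : Fact (Nat.Prime 2) := ⟨Nat.prime_two⟩
  have hn' : (R.subgroupOf C).Normal := ⟨fun r hr g => hn g g.2 r hr⟩
  have hN : (pPrimeCore 2 ↥C).Normal := Lib.Cores.pPrimeCore_normal 2
  have hodd : (Nat.card ↥(pPrimeCore 2 ↥C)).Coprime 2 := Lib.Cores.pPrimeCore_coprime 2
  have hdis : Disjoint (R.subgroupOf C) (pPrimeCore 2 ↥C) := by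
    apply Subgroup.disjoint_of_coprime_natCard
    obtain ⟨n, hn2⟩ := IsPGroup.iff_card.1 hp
    rw [Nat.card_congr (subgroupOfEquivOfLe hRC).toEquiv, hn2]
    exact (Nat.Coprime.pow_right n hodd).symm
  have hcomm := Subgroup.commute_of_normal_of_disjoint _ _ hn' hN hdis
  rw [eq_bot_iff]
  intro x hx
  have h1 : (x : X) ∈ R := by
    apply hc _ x.2
    intro r hr
    exact congrArg Subtype.val (hcomm ⟨r, hRC hr⟩ x (mem_subgroupOf.2 hr) hx).eq.symm
  have h2 : x ∈ R.subgroupOf C ⊓ pPrimeCore 2 ↥C := ⟨mem_subgroupOf.2 h1, hx⟩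
  rw [disjoint_iff.1 hdis] at h2
  exact h2

/-- `C(t)` of characteristic 2 -/
theorem At.of_pGroup {t : X} {R : Subgroup X} (hRC : R ≤ centralizer ({t} : Set X))
    (hn : ∀ c ∈ centralizer ({t} : Set X), ∀ r ∈ R, c * r * c⁻¹ ∈ R) (hp : IsPGroup 2 ↥R)
    (hc : ∀ c ∈ centralizer ({t} : Set X), (∀ r ∈ R, c * r = r * c) → c ∈ R) : At X t where
  bal := centralizerPPrimeCore_eq_bot_iff.2 (core_of_pGroup hRC hn hp hc)
  comp := fun K hK => by
    have : Fact (Nat.Prime 2) := ⟨Nat.prime_two⟩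
    exact absurd hK (no_comp_of_pGroup hRC hn hp hc K)

/-- one component -/
theorem At.of_comp {t : X} {N : Subgroup X} (hb : centralizerPPrimeCore 2 t = ⊥) (hN : IsQuasisimple ↥N)
    (hNC : N ≤ centralizer ({t} : Set X))
    (hperf : ∀ P : Subgroup X, P ≤ centralizer ({t} : Set X) → ⁅P, P⁆ = P → P ≤ N) (hg : Good ↥N) : At X t where
  bal := hb
  comp := fun K hK => by
    rw [comp_eq hN hNC hperf hK]
    exact hg

end comp

/-! ### Consequences -/

/-- **Conditions (1) of "even type"**: every element of `L₂(X)` is a `C₂`-group. -/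
theorem CompC2.lpAll {X : Type u} [Group X] [Finite X] (h : CompC2 X) : LpAll 2 X (InC 2) := by
  intro t ht K hK
  have hb := centralizerPPrimeCore_eq_bot_iff.1 (h.bal t ht)
  let C := centralizer ({t} : Set X)
  let e : ↥C ⧸ pPrimeCore 2 ↥C ≃* ↥C := (QuotientGroup.quotientMulEquivOfEq hb).trans QuotientGroup.quotientBot
  let K1 : Subgroup ↥C := K.map e.toMonoidHom
  have hK1 : IsComponent K1 := SignalizersComponents.Components.isComponent_map_equiv e hK
  let K2 : Subgroup X := K1.map C.subtype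
  have hK2 : IsComponentOf K2 C := by
    refine ⟨map_subtype_le _, ?_⟩
    have h1 : K2.subgroupOf C = K1 := by
      ext x
      simp [K2, mem_subgroupOf]
    rw [h1]
    exact hK1
  have hg := h.comp t ht K2 hK2
  have f : ↥K2 ≃* ↥K := ((subMap e K).trans (K1.equivMapOfInjective C.subtype C.subtype_injective)).symm
  have hg' := hg.congr f
  refine ⟨hK.2, ?_, hg'.1, hg'.2⟩
  -- the centre is a 2-group
  have hK2p : IsPGroup 2 ↥(center ↥K1) := by
    have h1 : (pPrimeCore 2 K1).map K1.subtype = ⊥ := by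
      rw [SignalizersComponents.CompBasic.map_subtype_pPrimeCore_of_subnormal 2 hK1.1, hb, inf_bot_eq]
    have h2 : pPrimeCore 2 K1 = ⊥ := (map_eq_bot_iff_of_injective _ K1.subtype_injective).1 h1
    intro x
    obtain ⟨k, m, hm, hkm⟩ := Nat.exists_eq_pow_mul_and_not_dvd (orderOf_pos x).ne' 2 (by norm_num)
    refine ⟨k, ?_⟩
    have hc : ((x : K1) ^ 2 ^ k) ∈ center K1 := (center K1).pow_mem x.2 _
    have hN : (zpowers ((x : K1) ^ 2 ^ k)).Normal := by
      refine ⟨fun a ha g => ?_⟩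
      have h3 : a ∈ center K1 := (zpowers_le.2 hc) ha
      rw [mem_center_iff.1 h3 g, mul_assoc, mul_inv_cancel, mul_one]
      exact ha
    have ho : orderOf ((x : K1) ^ 2 ^ k) = m := by
      rw [orderOf_pow, Subgroup.orderOf_coe, hkm, Nat.gcd_eq_right (Dvd.intro _ rfl)]
      exact Nat.mul_div_cancel_left m (by positivity)
    have h4 : zpowers ((x : K1) ^ 2 ^ k) ≤ pPrimeCore 2 K1 := by
      refine Lib.Cores.le_pPrimeCore hN ?_
      rw [Nat.card_zpowers, ho]
      exact Nat.Coprime.symm ((Nat.Prime.coprime_iff_not_dvd Nat.prime_two).2 hm)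
    rw [h2, le_bot_iff, zpowers_eq_bot] at h4
    exact Subtype.ext h4
  exact hK2p.of_equiv (centerEquiv (subMap e K).symm)

/-- the same for `L₂°(X)` -/
theorem CompC2.lpoAll {X : Type u} [Group X] [Finite X] (h : CompC2 X) : LpoAll 2 X (InC 2) :=
  fun t ht _ K hK => h.lpAll t ht K hK

end Cfsg.Agent.CTwoTab
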