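import Cfsg.Agent.CTwoTab.Exc
import Cfsg.Agent.RankThreeTwo.Base

/-!
# From `CompC2` to restricted even type (helper49)

* `CompCard S X` : the orders of the components `K` of the involution centralizers and of `K / Z(K)`; transport;
* `restricted` : `CompC2 X`, `m₂(X) ≥ 3` and no component isomorphic to `L₂(q)`, `q ∈ FM9`, or with
  `K / Z(K)` of order `|L₃(4)|` give "restricted even type";
* `rank_of_three` : three independent commuting involutions.
-/

set_option autoImplicit false

namespace Cfsg.Agent.CTwoTab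

open Subgroup Cfsg

universe u v

/-- the orders of the components `K` of the centralizers of involutions and of `K / Z(K)` satisfy `S` -/
def CompCard (S : ℕ → ℕ → Prop) (X : Type*) [Group X] : Prop :=
  ∀ t : X, orderOf t = 2 → ∀ K : Subgroup X, IsComponentOf K (centralizer ({t} : Set X)) →
    S (Nat.card ↥K) (Nat.card (↥K ⧸ center ↥K))

theorem CompCard.of_equiv {S : ℕ → ℕ → Prop} {X : Type u} {Y : Type v} [Group X] [Group Y] (e : X ≃* Y)
    (h : CompCard S X) : CompCard S Y := by
  intro t ht K hK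
  have h1 := isComponentOf_map e.symm hK
  rw [map_centralizer_singleton] at h1
  have h2 := h (e.symm t) (by rw [MulEquiv.orderOf_eq, ht]) _ h1
  rwa [← Nat.card_congr (subMap e.symm K).toEquiv,
    ← Nat.card_congr (quoEquiv (subMap e.symm K)).toEquiv] at h2

theorem CompCard.mono {S T : ℕ → ℕ → Prop} {X : Type*} [Group X] (hST : ∀ n m, S n m → T n m)
    (h : CompCard S X) : CompCard T X := fun t ht K hK => hST _ _ (h t ht K hK)

theorem card_PSL_two (F : Type) [Field F] [Fintype F] (ho : Odd (Fintype.card F)) :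
    2 * Nat.card (Matrix.ProjectiveSpecialLinearGroup (Fin 2) F) = Fintype.card F * (Fintype.card F ^ 2 - 1) := by
  have h := S0243.result (F := F) rfl 2 (by norm_num)
  rw [Fin.prod_univ_two] at h
  have hq : 1 < Fintype.card F := Fintype.one_lt_card
  have h0 : 0 < Fintype.card F - 1 := by omega
  have hg : Nat.gcd 2 (Fintype.card F - 1) = 2 := by
    obtain ⟨k, hk⟩ := ho
    rw [hk, Nat.add_sub_cancel]
    exact Nat.gcd_mul_right_right 2 k ▸ Nat.gcd_eq_left (Dvd.intro _ rfl)
  rw [hg] at h
  apply Nat.eq_of_mul_eq_mul_left h0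
  have : Fintype.card F ^ 2 - Fintype.card F ^ 1 = Fintype.card F * (Fintype.card F - 1) := by
    rw [Nat.mul_sub, mul_one, pow_two, pow_one]
  simp only [Fin.val_zero, Fin.val_one, pow_zero] at h
  rw [this] at h
  linarith

theorem odd_of_isFM9 {q : ℕ} (h : IsFM9 q) : Odd q := by
  rcases h with ⟨hp, ⟨k, hk, rfl⟩ | ⟨k, hk⟩⟩ | rfl
  · exact (Nat.even_pow.2 ⟨even_two, by omega⟩).add_one
  · rcases hp.eq_two_or_odd' with rfl | h
    · exfalso
      have h3 : (3 : ℕ) ∣ 2 ^ k := ⟨1, by omega⟩
      have := (Nat.prime_dvd_prime_iff_eq Nat.prime_three Nat.prime_two).1 (Nat.prime_three.dvd_of_dvd_pow h3)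
      omega
    · exact h
  · decide

/-- **Restricted even type** from the orders of the components. -/
theorem restricted {S : ℕ → ℕ → Prop} {X : Type u} [Group X] [Finite X] (h : CompC2 X)
    (h3 : PRankAtLeast 2 3 X) (hS : CompCard S X)
    (h1 : ∀ n m, S n m → (∀ q : ℕ, 2 * n ≠ q * (q ^ 2 - 1)) ∧ m ≠ 20160) : IsOfRestrictedEvenType X := by
  have key : ∀ (x : X) (K : Subgroup X), orderOf x = 2 → IsComponentOf K (centralizer ({x} : Set X)) →
      ∀ (F : Type) [Field F] [Fintype F], IsFM9 (Fintype.card F) →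
        ¬ Nonempty (↥K ≃* Matrix.ProjectiveSpecialLinearGroup (Fin 2) F) := by
    rintro x K hx hK F _ _ hF ⟨e⟩
    apply (h1 _ _ (hS x hx K hK)).1 (Fintype.card F)
    rw [Nat.card_congr e.toEquiv, card_PSL_two F (odd_of_isFM9 hF)]
  refine ⟨⟨h.lpAll, h.bal, h3⟩, ?_, ?_, ?_⟩
  · intro x K hx hK F _ _ hF e
    exact absurd e (key x K hx hK F hF)
  · intro x K hx F _ _ hF e
    exact absurd e (key x K hx.1 hx.2.1 F hF)
  · rintro x y K - - hx ⟨F, _, _, hF, ⟨e⟩⟩ - - -
    exfalso
    apply (h1 _ _ (hS x hx.1 K hx.2.1)).2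
    rw [Nat.card_congr e.toEquiv, card_PSL_three F hF]

/-- three independent commuting involutions -/
theorem rank_of_three {G : Type*} [Group G] {x y z : G} (hx : x * x = 1) (hy : y * y = 1) (hz : z * z = 1)
    (hxy : x * y = y * x) (hxz : x * z = z * x) (hyz : y * z = z * y)
    (h1 : x ≠ 1) (h2 : y ≠ 1) (h3 : z ≠ 1) (h4 : x * y ≠ 1) (h5 : x * z ≠ 1) (h6 : y * z ≠ 1)
    (h7 : x * y * z ≠ 1) : PRankAtLeast 2 3 G := by
  have d : ∀ u : ZMod 2, u = 0 ∨ u = 1 := by decide
  have e11 : (1 : ZMod 2) + 1 = 0 := by decide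
  have ne : (1 : ZMod 2) ≠ 0 := by decide
  have hf : ∀ w : G, w * w = 1 → ∀ u v : ZMod 2,
      (if u + v = 0 then 1 else w) = (if u = 0 then 1 else w) * (if v = 0 then 1 else w) := by
    intro w hw u v
    rcases d u with rfl | rfl <;> rcases d v with rfl | rfl <;> simp [e11, ne, hw]
  have hc : ∀ w w' : G, w * w' = w' * w → ∀ u v : ZMod 2,
      (if u = 0 then 1 else w) * (if v = 0 then 1 else w') = (if v = 0 then 1 else w') * (if u = 0 then 1 else w) := by
    intro w w' hw u v
    rcases d u with rfl | rfl <;> rcases d v with rfl | rfl <;> simp [ne, hw]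
  refine RankThreeTwo.Base.of_mul_three (V := ZMod 2) (by decide) ?_
    (fun u => if u = 0 then 1 else x) (fun u => if u = 0 then 1 else y) (fun u => if u = 0 then 1 else z)
    (hf x hx) (hf y hy) (hf z hz) (hc x y hxy) (hc x z hxz) (hc y z hyz) ?_
  · rw [Nat.card_zmod]
  · intro u v w h
    rcases d u with rfl | rfl <;> rcases d v with rfl | rfl <;> rcases d w with rfl | rfl <;>
      simp [ne] at h ⊢ <;> first | exact h1 h | exact h2 h | exact h3 h | exact h4 h | exact h5 h | exact h6 h | exact h7 h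

end Cfsg.Agent.CTwoTab
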