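import Cfsg.Agent.Co2Type.Quad
import Cfsg.Agent.CTwoTab.Bal

/-!
# Involutions with an extraspecial large subgroup (helper22)
-/

set_option autoImplicit false

namespace Cfsg.Agent.CTwoTab

open Subgroup Cfsg Cfsg.Agent.Co2Type.Quad

universe u

theorem isPGroup_of_large {X : Type u} [Group X] {Q : Subgroup X} {z : X} (h : Large Q z) : IsPGroup 2 ↥Q := by
  intro x
  refine ⟨2, Subtype.ext ?_⟩
  change (x : X) ^ 2 ^ 2 = 1
  have e : (x : X) ^ 2 ^ 2 = ((x : X) * x) * ((x : X) * x) := by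
    rw [show (2 : ℕ) ^ 2 = 2 + 2 by norm_num, pow_add, pow_two]
  rcases h.sq x x.2 with h1 | h1
  · rw [e, h1, mul_one]
  · rw [e, h1, h.z_sq]

theorem no_comp_of_large {X : Type u} [Group X] [Finite X] {Q : Subgroup X} {z : X} (h : Large Q z)
    (K : Subgroup X) : ¬ IsComponentOf K (centralizer ({z} : Set X)) := by
  have hp2 : Fact (Nat.Prime 2) := ⟨Nat.prime_two⟩
  refine no_comp_of_pGroup (p := 2) (R := Q) (fun r hr => mem_centralizer_singleton_iff.2 (h.comm_z r hr)) ?_
    (isPGroup_of_large h) ?_ K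
  · intro c hc r hr
    exact h.conj_mem c (mem_centralizer_singleton_iff.1 hc) r hr
  · intro c hc hcr
    exact h.self c (mem_centralizer_singleton_iff.1 hc) hcr

/-- **`Large Q z`** -/
theorem at_of_large {X : Type u} [Group X] [Finite X] {Q : Subgroup X} {z : X} (h : Large Q z) : At X z := by
  refine At.of_pGroup (R := Q) (fun r hr => mem_centralizer_singleton_iff.2 (h.comm_z r hr)) ?_
    (isPGroup_of_large h) ?_
  · intro c hc r hr
    exact h.conj_mem c (mem_centralizer_singleton_iff.1 hc) r hr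
  · intro c hc hcr
    exact h.self c (mem_centralizer_singleton_iff.1 hc) hcr

/-- no component: a normal 2-subgroup `R` of `C(t)` whose centralizer in `C(t)` is a 2-group -/
theorem no_comp_of_cent {X : Type u} [Group X] [Finite X] {t : X} {R : Subgroup X}
    (hRC : R ≤ centralizer ({t} : Set X)) (hn : ∀ c ∈ centralizer ({t} : Set X), ∀ r ∈ R, c * r * c⁻¹ ∈ R)
    (hp : IsPGroup 2 ↥R) {k : ℕ}
    (hc : ∀ c ∈ centralizer ({t} : Set X), (∀ r ∈ R, c * r = r * c) → c ^ 2 ^ k = 1)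
    (K : Subgroup X) : ¬ IsComponentOf K (centralizer ({t} : Set X)) := by
  have hp2 : Fact (Nat.Prime 2) := ⟨Nat.prime_two⟩
  have hnil := hp.isNilpotent
  have hs : Group.IsSolvable ↥R := inferInstance
  have h1 : IsPGroup 2 ↥(centralizer ({t} : Set X) ⊓ centralizer (R : Set X)) := by
    rintro ⟨x, hx1, hx2⟩
    exact ⟨k, Subtype.ext (hc x hx1 fun r hr => (mem_centralizer_iff.1 hx2 r hr).symm)⟩
  have hnil1 := h1.isNilpotent
  exact no_comp hRC hn hs inferInstance K

/-- the core: a normal 2-subgroup `R` of `C(t)` whose centralizer in `C(t)` is a 2-group -/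
theorem core_of_cent {X : Type u} [Group X] [Finite X] {t : X} {R : Subgroup X}
    (hRC : R ≤ centralizer ({t} : Set X)) (hn : ∀ c ∈ centralizer ({t} : Set X), ∀ r ∈ R, c * r * c⁻¹ ∈ R)
    (hp : IsPGroup 2 ↥R) {k : ℕ}
    (hc : ∀ c ∈ centralizer ({t} : Set X), (∀ r ∈ R, c * r = r * c) → c ^ 2 ^ k = 1) :
    centralizerPPrimeCore 2 t = ⊥ := by
  have hp2 : Fact (Nat.Prime 2) := ⟨Nat.prime_two⟩
  apply bal_of
  intro I hI hIn hodd
  have hIC : ∀ i ∈ I, i ∈ centralizer ({t} : Set X) := fun i hi => mem_centralizer_singleton_iff.2 (hI i hi)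
  have key : ∀ x ∈ I, ∀ j : ℕ, x ^ 2 ^ j = 1 → x = 1 := by
    intro x hx j hx2
    have h1 : orderOf x ∣ Nat.card ↥I := Subgroup.orderOf_dvd_natCard I hx
    have h3 : orderOf x ∣ 2 ^ j := orderOf_dvd_of_pow_eq_one hx2
    have h4 : (Nat.card ↥I).Coprime (2 ^ j) := Nat.Coprime.pow_right j hodd.coprime_two_right
    rw [← orderOf_eq_one_iff]
    exact Nat.eq_one_of_dvd_coprimes h4 h1 h3
  rw [eq_bot_iff]
  intro x hx
  rw [mem_bot]
  apply key x hx k
  apply hc x (hIC x hx)
  intro r hr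
  have h3 : x * r * x⁻¹ * r⁻¹ ∈ R := R.mul_mem (hn x (hIC x hx) r hr) (R.inv_mem hr)
  have h4 : x * r * x⁻¹ * r⁻¹ ∈ I := by
    have := I.mul_mem hx (hIn r (mem_centralizer_singleton_iff.1 (hRC hr)) x⁻¹ (I.inv_mem hx))
    convert this using 1
    group
  obtain ⟨j, hj⟩ := hp ⟨_, h3⟩
  have h5 := key _ h4 j (congrArg Subtype.val hj)
  calc x * r = x * r * x⁻¹ * r⁻¹ * (r * x) := by group
    _ = r * x := by rw [h5, one_mul]

/-- **a normal 2-subgroup `R` of `C(t)` whose centralizer in `C(t)` is a 2-group** -/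
theorem at_of_cent {X : Type u} [Group X] [Finite X] {t : X} {R : Subgroup X}
    (hRC : R ≤ centralizer ({t} : Set X)) (hn : ∀ c ∈ centralizer ({t} : Set X), ∀ r ∈ R, c * r * c⁻¹ ∈ R)
    (hp : IsPGroup 2 ↥R) {k : ℕ}
    (hc : ∀ c ∈ centralizer ({t} : Set X), (∀ r ∈ R, c * r = r * c) → c ^ 2 ^ k = 1) : At X t where
  bal := core_of_cent hRC hn hp hc
  comp := fun K hK => absurd hK (no_comp_of_cent hRC hn hp hc K)

/-- a component of `C(x)` for a conjugate `x` of `s` is conjugate to a component of `C(s)` -/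
theorem comp_conj {X : Type u} [Group X] {s c : X} {K : Subgroup X}
    (hK : IsComponentOf K (centralizer ({c * s * c⁻¹} : Set X))) :
    IsComponentOf (K.map (MulAut.conj c).symm.toMonoidHom) (centralizer ({s} : Set X)) := by
  have h1 := isComponentOf_map (MulAut.conj c).symm hK
  rw [map_centralizer_singleton] at h1
  rwa [show (MulAut.conj c).symm (c * s * c⁻¹) = s by rw [MulAut.conj_symm_apply]; group] at h1

end Cfsg.Agent.CTwoTab
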