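import Cfsg.Agent.KFacts.SuzTwoB
import Cfsg.Agent.SporadicA.PlaneFour
import Cfsg.Agent.CTwoTab.Kinds
import Cfsg.Agent.S0249
import Cfsg.Agent.CTwoTab.OfLarge
import Cfsg.Agent.KFacts.SuzLarge
import Cfsg.Agent.KFacts.SuzY

-- merged: Cfsg.Agent.CTwoTab.SuzPlane
section

/-!
# `Suz`: the group `L = ⟨a, b, c, f, g⟩` is `L₃(4)` (helper22)

`L` acts on 21 of the 1782 points as `PSL(3,4)` on the points of the projective plane of order four.
-/

set_option autoImplicit false
set_option maxRecDepth 100000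
set_option exponentiation.threshold 4000

namespace Cfsg.Agent.CTwoTab.SuzPlane

open Subgroup Cfsg Cfsg.Spor
open Cfsg.Agent.Lib.PermNet Cfsg.Agent.Lib.PermNetOrbit Cfsg.Agent.SporadicRecognition.SuzPhi
  Cfsg.Agent.SporadicRecognition.SuzOrder Cfsg.Agent.SuzThree.Basic Cfsg.Agent.SuzThree.CentA
  Cfsg.Agent.KFacts.SuzLFour
open Cfsg.Agent.SporadicA.FieldFour Cfsg.Agent.SporadicA.PlaneFour

/-- `PSL(3,4)` -/
abbrev PSL3 : Type := Matrix.ProjectiveSpecialLinearGroup (Fin 3) F4

/-- the point with the given number in the plane -/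
def bt : List ℕ := [0, 0, 2, 1, 0, 10, 21, 11, 3, 6, 29, 80, 7, 9, 36, 31, 51, 17, 4, 34, 16, 5, 19, 0]

/-- the matrix of the generator `a` -/
def mA : Matrix (Fin 3) (Fin 3) F4 := ![![.o, .z, .o], ![.z, .o, .o], ![.z, .z, .o]]
/-- the matrix of the generator `b` -/
def mB : Matrix (Fin 3) (Fin 3) F4 := ![![.o, .z, .z], ![.z, .z, .v], ![.z, .w, .z]]
/-- the matrix of the generator `c` -/
def mC : Matrix (Fin 3) (Fin 3) F4 := ![![.o, .z, .v], ![.z, .o, .v], ![.z, .z, .o]]
/-- the matrix of the generator `f` -/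
def mF : Matrix (Fin 3) (Fin 3) F4 := ![![.o, .z, .w], ![.z, .o, .v], ![.z, .z, .o]]
/-- the matrix of the generator `g` -/
def mG : Matrix (Fin 3) (Fin 3) F4 := ![![.z, .o, .z], ![.o, .z, .z], ![.z, .z, .o]]

/-- matrix times vector -/
def mvec (M : Matrix (Fin 3) (Fin 3) F4) (v : V3) : V3 := fun i => M i 0 * v 0 + M i 1 * v 1 + M i 2 * v 2

theorem mulVec_eq (M : Matrix (Fin 3) (Fin 3) F4) (v : V3) : M.mulVec v = mvec M v := by
  funext i
  simp only [Matrix.mulVec, dotProduct, Fin.sum_univ_three, mvec]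

/-- the number of the point of the 1782 points attached to a point of the plane -/
def bn (q : GolayPt) : ℕ := bt.getD (idx q) 0

theorem bn_inj {q r : GolayPt} (hq : IsPlanePt q) (hr : IsPlanePt r) (h : bn q = bn r) : q = r := by
  revert q r; decide +kernel

theorem om_eq : ∀ f ∈ ([2, 5, 1, 0] : List ℕ), ∃ q : GolayPt, IsPlanePt q ∧ bn q = f := by decide +kernel

/-- the matrix induces the same permutation as the generator -/
def chkM (x : Suz.Gen) (M : Matrix (Fin 3) (Fin 3) F4) : Prop :=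
  ∀ q : GolayPt, IsPlanePt q → mv (wd [x]) (bn q) (bn (ptOf (mvec M (rep q)))) = true

theorem chkA : chkM .a mA := by unfold chkM; decide +kernel
theorem chkB : chkM .b mB := by unfold chkM; decide +kernel
theorem chkC : chkM .c mC := by unfold chkM; decide +kernel
theorem chkF : chkM .f mF := by unfold chkM; decide +kernel
theorem chkG : chkM .g mG := by unfold chkM; decide +kernel

theorem det_mA : mA.det = 1 := by rw [Matrix.det_fin_three]; decide +kernel
theorem det_mB : mB.det = 1 := by rw [Matrix.det_fin_three]; decide +kernel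
theorem det_mC : mC.det = 1 := by rw [Matrix.det_fin_three]; decide +kernel
theorem det_mF : mF.det = 1 := by rw [Matrix.det_fin_three]; decide +kernel
theorem det_mG : mG.det = 1 := by rw [Matrix.det_fin_three]; decide +kernel

theorem isPlanePt_psl (γ : PSL3) {q : GolayPt} (hq : IsPlanePt q) : IsPlanePt (pslHom γ q) := by
  by_contra h
  have h1 : pslHom γ (pslHom γ q) = pslHom γ q := by
    obtain ⟨g, rfl⟩ := QuotientGroup.mk_surjective γ
    exact slHom_apply_of_not g _ h
  have h2 := (pslHom γ).injective h1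
  rw [h2] at h
  exact h hq

/-- `x` acts on the 21 points as `γ` on the plane -/
def Rl (x : Suz) (γ : PSL3) : Prop := ∀ q : GolayPt, IsPlanePt q → φ x (bn q) = bn (pslHom γ q)

theorem Rl.one : Rl 1 1 := fun q _ => by rw [map_one, map_one]; rfl

theorem Rl.mul {x y : Suz} {γ δ : PSL3} (h1 : Rl x γ) (h2 : Rl y δ) : Rl (x * y) (γ * δ) := by
  intro q hq
  rw [map_mul, Equiv.Perm.mul_apply, h2 q hq, h1 _ (isPlanePt_psl δ hq), map_mul, Equiv.Perm.mul_apply]

theorem Rl.inv {x : Suz} {γ : PSL3} (h : Rl x γ) : Rl x⁻¹ γ⁻¹ := by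
  intro q hq
  rw [map_inv, Equiv.Perm.inv_eq_iff_eq, h _ (isPlanePt_psl _ hq), ← Equiv.Perm.mul_apply, ← map_mul,
    mul_inv_cancel, map_one]
  rfl

theorem Rl.unique {x : Suz} {γ δ : PSL3} (h1 : Rl x γ) (h2 : Rl x δ) : γ = δ := by
  apply pslHom_injective
  apply Equiv.ext
  intro q
  by_cases hq : IsPlanePt q
  · exact bn_inj (isPlanePt_psl γ hq) (isPlanePt_psl δ hq) ((h1 q hq).symm.trans (h2 q hq))
  · obtain ⟨g, rfl⟩ := QuotientGroup.mk_surjective γ
    obtain ⟨g', rfl⟩ := QuotientGroup.mk_surjective δ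
    exact (slHom_apply_of_not g _ hq).trans (slHom_apply_of_not g' _ hq).symm

theorem rl_of_chk {x : Suz.Gen} {M : Matrix (Fin 3) (Fin 3) F4} (h : chkM x M) (hM : M.det = 1) :
    Rl (el [x]) (QuotientGroup.mk (⟨M, hM⟩ : Matrix.SpecialLinearGroup (Fin 3) F4)) := by
  intro q hq
  have h1 : pslHom (QuotientGroup.mk (⟨M, hM⟩ : Matrix.SpecialLinearGroup (Fin 3) F4)) q = ptOf (mvec M (rep q)) := by
    rw [← mulVec_eq]
    exact slHom_apply ⟨M, hM⟩ q hq
  rw [h1]
  exact (Rep.el [x]).pt (h q hq)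

/-- the elements acting on the 21 points as elements of `PSL(3,4)` -/
def M0 : Subgroup Suz where
  carrier := {x | ∃ γ : PSL3, Rl x γ}
  one_mem' := ⟨1, Rl.one⟩
  mul_mem' := by
    rintro x y ⟨γ, h1⟩ ⟨δ, h2⟩
    exact ⟨_, h1.mul h2⟩
  inv_mem' := by
    rintro x ⟨γ, h⟩
    exact ⟨_, h.inv⟩

theorem exists_rl {x : Suz} (hx : x ∈ L) : ∃ γ : PSL3, Rl x γ := by
  have h : L ≤ M0 := by
    apply cl_le
    intro w hw
    simp only [gl, List.mem_cons, List.not_mem_nil, or_false] at hw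
    rcases hw with rfl | rfl | rfl | rfl | rfl
    · exact ⟨_, rl_of_chk chkA det_mA⟩
    · exact ⟨_, rl_of_chk chkB det_mB⟩
    · exact ⟨_, rl_of_chk chkC det_mC⟩
    · exact ⟨_, rl_of_chk chkF det_mF⟩
    · exact ⟨_, rl_of_chk chkG det_mG⟩
  exact h hx

/-- the homomorphism of `L` onto `PSL(3,4)` -/
noncomputable def Th : ↥L →* PSL3 where
  toFun x := (exists_rl x.2).choose
  map_one' := Rl.unique (exists_rl L.one_mem).choose_spec Rl.one
  map_mul' x y := Rl.unique (exists_rl (L.mul_mem x.2 y.2)).choose_spec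
    ((exists_rl x.2).choose_spec.mul (exists_rl y.2).choose_spec)

theorem Th_spec (x : ↥L) : Rl x (Th x) := (exists_rl x.2).choose_spec

theorem stab_eq_bot : stabL (φS L) [2, 5, 1, 0] = ⊥ := by
  have h1 := card_mul_L
  have h2 : 0 < Nat.card (stabL (φS L) [2, 5, 1, 0]) := Nat.card_pos
  rw [Cfsg.Agent.KFacts.SuzTwoB.card_L] at h1
  rw [← card_eq_one]
  omega

theorem Th_injective : Function.Injective Th := by
  rw [← MonoidHom.ker_eq_bot_iff, eq_bot_iff, ← stab_eq_bot]
  intro x hx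
  rw [mem_stabL]
  intro p hp
  obtain ⟨q, hq, rfl⟩ := om_eq p hp
  have h1 := Th_spec x q hq
  rw [MonoidHom.mem_ker.1 hx, map_one] at h1
  exact h1

theorem card_PSL3 : Nat.card PSL3 = 20160 := card_PSL_three F4 rfl

/-- **`L` is `PSL(3,4)`.** -/
noncomputable def equiv : ↥L ≃* PSL3 :=
  MulEquiv.ofBijective Th (by
    have : Finite PSL3 := Nat.finite_of_card_ne_zero (by rw [card_PSL3]; norm_num)
    rw [Nat.bijective_iff_injective_and_card]
    exact ⟨Th_injective, by rw [card_PSL3]; exact Cfsg.Agent.KFacts.SuzTwoB.card_L⟩)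

theorem simple_L : IsSimpleGroup ↥L := by
  have : IsSimpleGroup PSL3 := Cfsg.Agent.S0249.result 3 le_rfl
  exact equiv.isSimpleGroup

end Cfsg.Agent.CTwoTab.SuzPlane

end

-- merged: Cfsg.Agent.CTwoTab.Suz
section

/-!
# `Suz`: the components of involution centralizers are `C₂`-groups (helper22)

`C(2A) = 2^{1+6}_-.U₄(2)` (no component), `C(2B) = (2² × L₃(4)).2`.
-/

set_option autoImplicit false
set_option maxRecDepth 100000
set_option exponentiation.threshold 4000

namespace Cfsg.Agent.CTwoTab.Suz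

open Subgroup Cfsg Cfsg.Spor
open Cfsg.Agent.SporadicRecognition.SuzOrder Cfsg.Agent.SuzThree.Basic Cfsg.Agent.SuzThree.CentA
  Cfsg.Agent.KFacts.SuzLFour Cfsg.Agent.KFacts.SuzTwoB Cfsg.Agent.CTwoTab.SuzPlane

theorem finSuz : Finite Cfsg.Spor.Suz := by
  apply Nat.finite_of_card_ne_zero
  rw [SporadicRecognition.SuzOrder.card_Suz]
  norm_num

theorem center_L : center ↥L = ⊥ := by
  have := simple_L
  apply center_eq_bot_of_simple
  intro h
  have h1 : ⁅L, L⁆ = ⊥ := by
    rw [eq_bot_iff, commutator_le]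
    intro a ha b hb
    rw [mem_bot, commutatorElement_eq_one_iff_mul_comm]
    exact congrArg Subtype.val (h.is_comm.comm (⟨a, ha⟩ : ↥L) ⟨b, hb⟩)
  rw [perfect'] at h1
  have h2 := card_L
  rw [h1, card_bot] at h2
  omega

theorem na_L : ¬ IsMulCommutative ↥L := by
  intro h
  have h1 : (center ↥L) = ⊤ := by
    rw [eq_top_iff]
    intro x _
    exact mem_center_iff.2 fun y => h.is_comm.comm _ _
  rw [center_L] at h1
  have h2 : Nat.card ↥L = 1 := by
    rw [← card_top (G := ↥L), ← h1, card_bot]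
  rw [card_L] at h2
  omega

theorem good_L : Good ↥L := by
  have := simple_L
  exact good_of_simple na_L (cp_L34 (F := Cfsg.Agent.SporadicA.FieldFour.F4) rfl equiv)

theorem quasi_L : IsQuasisimple ↥L := by
  have := simple_L
  exact isQuasisimple_of_simple na_L

theorem L_le_CE : L ≤ CE := L_le.trans VL_le

theorem perfect_le_L (P : Subgroup Cfsg.Spor.Suz) (hP : P ≤ CE) (hperf : ⁅P, P⁆ = P) : P ≤ L := by
  have hfin := finSuz
  have h1 : P ≤ VL := by
    refine perfect_le_of_sq (C := CE) (fun c hc => ?_) P hP hperf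
    have h2 := Subgroup.mul_self_mem_of_index_two idx.1 (⟨c, hc⟩ : ↥CE)
    exact h2
  calc P = ⁅P, P⁆ := hperf.symm
    _ ≤ ⁅VL, VL⁆ := commutator_mono h1 h1
    _ = L := comm_VL

theorem sq_V {v : Cfsg.Spor.Suz} (hv : v ∈ V) : v ^ 2 ^ 1 = 1 := by
  rw [pow_one, pow_two]
  rcases mem_V.1 hv with rfl | rfl | rfl | rfl
  · rw [mul_one]
  · exact e0_sq
  · exact e1_sq
  · exact e2_sq

theorem at_e : At Cfsg.Spor.Suz e0 := by
  have hfin := finSuz
  refine At.of_quasi (N := L) (k := 1) quasi_L (by rw [card_L]; norm_num) L_le_CE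
    (fun c hc x hx => conj_L hc hx) ?_ perfect_le_L good_L
  intro x hx hxL
  exact sq_V (cent_L hxL (mem_CE.1 hx))

theorem classes {t : Cfsg.Spor.Suz} (ht : t * t = 1) (h1 : t ≠ 1) : IsConj z0 t ∨ IsConj e0 t := by
  rcases SporRec.SuzCl.two t ht h1 with ⟨g, hg⟩ | ⟨g, hg⟩
  · left
    rw [KFacts.SuzY.z0_eq]
    exact isConj_iff.2 ⟨g, hg⟩
  · right
    have : SporRec.SuzCl.ie = e0 := by
      show _ = ([Suz.Gen.e].map fun x => (PresentedGroup.of x : Suz)).prod
      rw [List.map_cons, List.map_nil, List.prod_cons, List.prod_nil, mul_one]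
      rfl
    rw [← this]
    exact isConj_iff.2 ⟨g, hg⟩

theorem compC2 : CompC2 Cfsg.Spor.Suz := by
  have hfin := finSuz
  refine CompC2.mk_of_isConj (fun s => s = z0 ∨ s = e0) (fun a haa ha1 => ?_) ?_
  · rcases classes haa ha1 with h | h
    · exact ⟨z0, Or.inl rfl, h⟩
    · exact ⟨e0, Or.inr rfl, h⟩
  · rintro s (rfl | rfl)
    · exact at_of_large KFacts.SuzLarge.large
    · exact at_e

/-- **`Suz`** -/
theorem compC2_of_iso {X : Type*} [Group X] (h : Cfsg.Spor.IsoSuz X) : CompC2 X := by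
  obtain ⟨e⟩ := h
  exact compC2.of_equiv e.symm

/-- a component of the centralizer of an involution of `Suz` is a conjugate of `L`, the centralizer that of a conjugate of
`e0` -/
theorem comp_cases {x : Cfsg.Spor.Suz} {K : Subgroup Cfsg.Spor.Suz} (hx : orderOf x = 2)
    (hK : IsComponentOf K (centralizer ({x} : Set Cfsg.Spor.Suz))) :
    ∃ c, x = c * e0 * c⁻¹ ∧ K.map (MulAut.conj c).symm.toMonoidHom = L := by
  have hfin := finSuz
  have hxx : x * x = 1 := by rw [← pow_two, ← hx, pow_orderOf_eq_one]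
  have hx1 : x ≠ 1 := by
    rintro rfl
    rw [orderOf_one] at hx
    omega
  rcases classes hxx hx1 with h | h
  · obtain ⟨c, rfl⟩ := isConj_iff.1 h
    exact absurd (comp_conj hK) (no_comp_of_large KFacts.SuzLarge.large _)
  · obtain ⟨c, rfl⟩ := isConj_iff.1 h
    exact ⟨c, rfl, comp_eq quasi_L L_le_CE perfect_le_L (comp_conj hK)⟩

end Cfsg.Agent.CTwoTab.Suz

end
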