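import Cfsg.Agent.CTwoTab.Base

/-!
# Good quasisimple groups (helper22)

* `not_exception_of_center` : `Z(K) = 1` implies that `K` is not an exception of the `C₂` list;
* `good_of_simple` : a simple group on the `C₂` list is good;
* `perfect_le_of_sq` : perfect subgroups of `C` lie in a normal subgroup containing all the squares of `C`.
-/

set_option autoImplicit false

namespace Cfsg.Agent.CTwoTab

open Subgroup Cfsg Matrix
open scoped commutatorElement

universe u v

theorem isFM9_odd {q : ℕ} (h : IsFM9 q) : Odd q := by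
  rcases h with ⟨hp, ⟨k, hk, rfl⟩ | ⟨k, hk⟩⟩ | rfl
  · exact ((Nat.even_pow.2 ⟨even_two, by omega⟩)).add_one
  · rcases hp.eq_two_or_odd' with rfl | h
    · exfalso
      have h1 : 1 < 2 ^ k := by omega
      have h2 : k ≠ 0 := by rintro rfl; norm_num at h1
      have h3 : Even (2 ^ k) := Nat.even_pow.2 ⟨even_two, h2⟩
      rw [← hk] at h3
      exact absurd h3 (by decide)
    · exact h
  · decide

theorem one_ne_neg_one {F : Type*} [Field F] [Fintype F] (h : Odd (Fintype.card F)) : (1 : F) ≠ -1 := by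
  intro h1
  have h2 : (2 : F) = 0 := by
    have : (1 : F) + 1 = 0 := by nth_rewrite 1 [h1]; ring
    rw [← one_add_one_eq_two]; exact this
  have h3 : ringChar F = 2 := by
    have h4 : ringChar F ∣ 2 := (ringChar.spec F 2).1 (by exact_mod_cast h2)
    rcases (Nat.dvd_prime Nat.prime_two).1 h4 with h5 | h5
    · exact absurd h5 (CharP.ringChar_ne_one)
    · exact h5
  have h4 := FiniteField.even_card_of_char_two h3
  rw [← Nat.not_even_iff_odd] at h
  exact h (Nat.even_iff.2 h4)

theorem center_sl_ne_bot {F : Type*} [Field F] [Fintype F] (h : Odd (Fintype.card F)) {n : ℕ} (hn : Even n)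
    (hn0 : 0 < n) : center (Matrix.SpecialLinearGroup (Fin n) F) ≠ ⊥ := by
  intro hb
  have hdet : ((-1 : Matrix (Fin n) (Fin n) F)).det = 1 := by
    rw [Matrix.det_neg, Matrix.det_one, Fintype.card_fin, hn.neg_one_pow, mul_one]
  let m : Matrix.SpecialLinearGroup (Fin n) F := ⟨-1, hdet⟩
  have hm : m ∈ center (Matrix.SpecialLinearGroup (Fin n) F) := by
    rw [mem_center_iff]
    intro g
    apply Subtype.ext
    change (g : Matrix (Fin n) (Fin n) F) * (-1) = (-1) * g
    rw [mul_neg, mul_one, neg_mul, one_mul]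
  rw [hb, mem_bot] at hm
  have h1 : (-1 : Matrix (Fin n) (Fin n) F) = 1 := congrArg Subtype.val hm
  have h2 := congrFun (congrFun h1 ⟨0, hn0⟩) ⟨0, hn0⟩
  rw [Matrix.neg_apply, Matrix.one_apply_eq] at h2
  exact one_ne_neg_one h h2.symm

theorem center_sp_ne_bot {F : Type*} [Field F] [Fintype F] (h : Odd (Fintype.card F)) {n : ℕ} (hn0 : 0 < n) :
    center ↥(Matrix.symplecticGroup (Fin n) F) ≠ ⊥ := by
  intro hb
  have hmem : (-1 : Matrix (Fin n ⊕ Fin n) (Fin n ⊕ Fin n) F) ∈ Matrix.symplecticGroup (Fin n) F :=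
    SymplecticGroup.neg_mem (one_mem _)
  let m : ↥(Matrix.symplecticGroup (Fin n) F) := ⟨-1, hmem⟩
  have hmv : (m : Matrix (Fin n ⊕ Fin n) (Fin n ⊕ Fin n) F) = -1 := rfl
  have hm : m ∈ center ↥(Matrix.symplecticGroup (Fin n) F) := by
    rw [mem_center_iff]
    intro g
    apply Subtype.ext
    change (g : Matrix (Fin n ⊕ Fin n) (Fin n ⊕ Fin n) F) * m = m * g
    rw [hmv, mul_neg, mul_one, neg_mul, one_mul]
  rw [hb, mem_bot] at hm
  have h1 : (-1 : Matrix (Fin n ⊕ Fin n) (Fin n ⊕ Fin n) F) = 1 := by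
    rw [← hmv, hm]; rfl
  have h2 := congrFun (congrFun h1 (Sum.inl ⟨0, hn0⟩)) (Sum.inl ⟨0, hn0⟩)
  rw [Matrix.neg_apply, Matrix.one_apply_eq] at h2
  exact one_ne_neg_one h h2.symm

theorem center_su_ne_bot {F : Type*} [Field F] [Fintype F] (h : Odd (Fintype.card F)) {n q : ℕ} (hn : Even n)
    (hn0 : 0 < n) (hq : Odd q) : center ↥(SU n F q) ≠ ⊥ := by
  intro hb
  have hdet : ((-1 : Matrix (Fin n) (Fin n) F)).det = 1 := by
    rw [Matrix.det_neg, Matrix.det_one, Fintype.card_fin, hn.neg_one_pow, mul_one]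
  let m : Matrix.SpecialLinearGroup (Fin n) F := ⟨-1, hdet⟩
  have hmm : m ∈ SU n F q := by
    intro u v
    have h1 : ∀ w : Fin n → F, slToMat n F m *ᵥ w = -w := by
      intro w
      change (-1 : Matrix (Fin n) (Fin n) F) *ᵥ w = -w
      rw [Matrix.neg_mulVec, Matrix.one_mulVec]
    rw [h1, h1]
    unfold hermForm
    apply Finset.sum_congr rfl
    intro i _
    rw [Pi.neg_apply, Pi.neg_apply, hq.neg_pow]
    ring
  have hm : (⟨m, hmm⟩ : ↥(SU n F q)) ∈ center ↥(SU n F q) := by
    rw [mem_center_iff]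
    intro g
    apply Subtype.ext
    apply Subtype.ext
    change ((g : Matrix.SpecialLinearGroup (Fin n) F) : Matrix (Fin n) (Fin n) F) * (-1) = (-1) * _
    rw [mul_neg, mul_one, neg_mul, one_mul]
  rw [hb, mem_bot] at hm
  have h1 : (-1 : Matrix (Fin n) (Fin n) F) = 1 := congrArg Subtype.val (congrArg Subtype.val hm)
  have h2 := congrFun (congrFun h1 ⟨0, hn0⟩) ⟨0, hn0⟩
  rw [Matrix.neg_apply, Matrix.one_apply_eq] at h2
  exact one_ne_neg_one h h2.symm

theorem center_eq_bot_congr {K : Type u} {L : Type v} [Group K] [Group L] (e : K ≃* L) (h : center K = ⊥) :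
    center L = ⊥ := by
  rw [← map_center_equiv e, h, Subgroup.map_bot]

/-- **A group with trivial centre is not an exception.** -/
theorem not_exception_of_center {K : Type*} [Group K] (hz : center K = ⊥) : ¬ IsCpException 2 K := by
  rintro (⟨-, h⟩ | ⟨hp, -⟩)
  swap
  · omega
  rcases h with ⟨F, i1, i2, h1, ⟨f⟩⟩ | ⟨h1, -⟩ | ⟨F, i1, i2, h1, ⟨⟨f⟩⟩ | ⟨⟨f⟩⟩⟩ | ⟨F, i1, i2, h1, ⟨f⟩⟩ | ⟨-, z, hz', hz4⟩
  · exact center_sl_ne_bot (isFM9_odd h1) even_two (by norm_num) (center_eq_bot_congr f hz)
  · rw [hz, card_bot] at h1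
    omega
  · exact center_sl_ne_bot (by rw [h1]; decide) (by decide) (by norm_num) (center_eq_bot_congr f hz)
  · exact center_sp_ne_bot (by rw [h1]; decide) (by norm_num) (center_eq_bot_congr f hz)
  · exact center_su_ne_bot (by rw [h1]; decide) (by decide) (by norm_num) (by decide) (center_eq_bot_congr f hz)
  · rw [hz, mem_bot] at hz'
    rw [hz', orderOf_one] at hz4
    omega

/-- **A group with trivial centre on the `C₂` list is good.** -/
theorem good_of_center {K : Type*} [Group K] (hz : center K = ⊥) (h : IsCpSimple 2 K) : Good K :=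
  ⟨isCpSimple_two_congr ((QuotientGroup.quotientMulEquivOfEq hz).trans QuotientGroup.quotientBot).symm h,
    not_exception_of_center hz⟩

theorem center_eq_bot_of_simple {K : Type*} [Group K] [IsSimpleGroup K] (hna : ¬ IsMulCommutative K) :
    center K = ⊥ := by
  rcases (inferInstance : (center K).Normal).eq_bot_or_eq_top with h | h
  · exact h
  · exfalso
    apply hna
    refine ⟨⟨fun a b => ?_⟩⟩
    have : b ∈ center K := by rw [h]; exact mem_top b
    exact mem_center_iff.1 this a

/-- **A simple group on the `C₂` list is good.** -/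
theorem good_of_simple {K : Type*} [Group K] [IsSimpleGroup K] (hna : ¬ IsMulCommutative K) (h : IsCpSimple 2 K) :
    Good K := good_of_center (center_eq_bot_of_simple hna) h

/-- A non-abelian simple group is quasisimple. -/
theorem isQuasisimple_of_simple {K : Type*} [Group K] [IsSimpleGroup K] (hna : ¬ IsMulCommutative K) :
    IsQuasisimple K := by
  have hz := center_eq_bot_of_simple hna
  refine ⟨?_, ?_⟩
  · rw [Group.isPerfect_def]
    rcases (inferInstance : (_root_.commutator K).Normal).eq_bot_or_eq_top with h | h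
    · exfalso
      apply hna
      refine ⟨⟨fun a b => ?_⟩⟩
      have h1 : ⁅a, b⁆ ∈ _root_.commutator K := commutator_mem_commutator (mem_top a) (mem_top b)
      rw [h, mem_bot] at h1
      exact commutatorElement_eq_one_iff_mul_comm.1 h1
    · exact h
  · have e := ((QuotientGroup.quotientMulEquivOfEq hz).trans QuotientGroup.quotientBot : K ⧸ center K ≃* K)
    exact e.isSimpleGroup

/-! ### Perfect subgroups -/

/-- If `N` is normalized by `C` and contains all the commutators of elements of `C`, it contains the perfect subgroups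
of `C`. -/
theorem perfect_le_of_comm {X : Type*} [Group X] {C N : Subgroup X}
    (hc : ∀ a ∈ C, ∀ b ∈ C, ⁅a, b⁆ ∈ N) (P : Subgroup X) (hP : P ≤ C) (hperf : ⁅P, P⁆ = P) : P ≤ N := by
  rw [← hperf, commutator_le]
  exact fun a ha b hb => hc a (hP ha) b (hP hb)

/-- If `N` contains all the squares of elements of `C`, it contains the perfect subgroups of `C`. -/
theorem perfect_le_of_sq {X : Type*} [Group X] {C N : Subgroup X}
    (hc : ∀ a ∈ C, a * a ∈ N) (P : Subgroup X) (hP : P ≤ C) (hperf : ⁅P, P⁆ = P) : P ≤ N := by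
  refine perfect_le_of_comm (C := C) (fun a ha b hb => ?_) P hP hperf
  have h1 : ⁅a, b⁆ = (a * b) * (a * b) * ((b⁻¹ * a⁻¹ * b) * (b⁻¹ * a⁻¹ * b)) * (b⁻¹ * b⁻¹) := by
    rw [commutatorElement_def]; group
  rw [h1]
  refine N.mul_mem (N.mul_mem (hc _ (C.mul_mem ha hb)) (hc _ ?_)) (hc _ (C.inv_mem hb))
  exact C.mul_mem (C.mul_mem (C.inv_mem hb) (C.inv_mem ha)) hb

/-- the same with a stationary series: if `N` contains some iterated commutator subgroup of `C`. -/
theorem perfect_le_of_iterate {X : Type*} [Group X] {C N : Subgroup X} {n : ℕ}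
    (h : (fun L : Subgroup X => ⁅L, L⁆)^[n] C ≤ N) (P : Subgroup X) (hP : P ≤ C) (hperf : ⁅P, P⁆ = P) : P ≤ N := by
  refine le_trans ?_ h
  clear h
  induction n generalizing C with
  | zero => exact hP
  | succ n ih =>
    rw [Function.iterate_succ_apply]
    exact ih (by rw [← hperf]; exact commutator_mono hP hP)

end Cfsg.Agent.CTwoTab
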